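import Mathlib
import Cfsg.Agent.Lib.SolutionCount

/-!
Numbers of elements of each order in a group of order `q (q ^ 2 - 1)`, `q` an odd prime power.
-/

set_option autoImplicit false
set_option linter.unusedSectionVars false
set_option linter.style.haveILetI false

namespace CfsgLib.NsePGL

open Finset

universe u

variable {H : Type u} [Group H] [Fintype H] [DecidableEq H]

/-- The number of elements of order `n`. -/
noncomputable def cnt (H : Type u) [Group H] [Fintype H] [DecidableEq H] (n : ℕ) : ℕ :=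
  (univ.filter fun x : H => orderOf x = n).card

theorem cnt_eq_nat_card (n : ℕ) : Nat.card {x : H // orderOf x = n} = cnt H n := by
  rw [Nat.card_eq_fintype_card, Fintype.card_subtype]; rfl

theorem cnt_one : cnt H 1 = 1 := by
  simp [cnt, orderOf_eq_one_iff, Finset.filter_eq']

theorem cnt_pos_iff {n : ℕ} : 0 < cnt H n ↔ ∃ x : H, orderOf x = n := by
  simp [cnt, card_pos, Finset.Nonempty]

theorem even_cnt {n : ℕ} (hn : 3 ≤ n) : Even (cnt H n) := by
  have h : ∑ _x ∈ univ.filter (fun x : H => orderOf x = n), (1 : ZMod 2) = 0 := by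
    refine Finset.sum_involution (fun x _ => x⁻¹) (fun _ _ => by decide) (fun x hx _ e => ?_)
      (fun x hx => by simpa using hx) (fun x _ => inv_inv x)
    have h2 : x ^ 2 = 1 := by
      rw [pow_two]
      nth_rewrite 2 [← e]
      exact mul_inv_cancel x
    have := Nat.le_of_dvd (by norm_num) (orderOf_dvd_of_pow_eq_one h2)
    rw [(mem_filter.1 hx).2] at this
    omega
  rw [sum_const, nsmul_one, ZMod.natCast_eq_zero_iff_even] at h
  exact h

/-- A group of order `q (q ^ 2 - 1)`. -/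
structure Ord (H : Type u) [Group H] (p k : ℕ) : Prop where
  hp : p.Prime
  odd : p ≠ 2
  hk : 0 < k
  card : Nat.card H = p ^ k * ((p ^ k) ^ 2 - 1)

/-- Every element of order divisible by `p` has order `p`. -/
def Isolated (H : Type u) [Group H] (p : ℕ) : Prop := ∀ x : H, p ∣ orderOf x → orderOf x = p

namespace Ord

variable {p k : ℕ} (h : Ord H p k)
include h

theorem three_le : 3 ≤ p ^ k := by
  have := h.hp.two_le
  have := h.odd
  calc 3 ≤ p := by omega
    _ ≤ p ^ k := Nat.le_self_pow h.hk.ne' p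

theorem sq_pos : 0 < (p ^ k) ^ 2 - 1 := by
  have := h.three_le
  have : 9 ≤ (p ^ k) ^ 2 := by nlinarith
  omega

theorem not_dvd : ¬ p ∣ (p ^ k) ^ 2 - 1 := by
  intro hd
  have h1 : p ∣ (p ^ k) ^ 2 := dvd_pow (dvd_pow_self p h.hk.ne') (by norm_num)
  have h2 := Nat.dvd_sub h1 hd
  rw [Nat.sub_sub_self (by have := h.sq_pos; omega)] at h2
  exact h.hp.one_lt.ne' (Nat.dvd_one.1 h2)

theorem coprime : Nat.Coprime ((p ^ k) ^ 2 - 1) (p ^ k) :=
  Nat.Coprime.pow_right k ((h.hp.coprime_iff_not_dvd.2 h.not_dvd).symm)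

theorem fcard : Fintype.card H = p ^ k * ((p ^ k) ^ 2 - 1) := by
  rw [← Nat.card_eq_fintype_card, h.card]

/-- An element has order prime to `p` exactly if it is killed by `q ^ 2 - 1`. -/
theorem dvd_singular :
    (p ^ k) ^ 2 - 1 ∣ (univ.filter fun x : H => p ∣ orderOf x).card := by
  have hset : (univ.filter fun x : H => ¬ p ∣ orderOf x) =
      univ.filter fun x : H => x ^ ((p ^ k) ^ 2 - 1) = 1 := by
    refine filter_congr fun x _ => ⟨fun hx => orderOf_dvd_iff_pow_eq_one.1 ?_, fun hx hd => ?_⟩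
    · exact (Nat.Coprime.pow_right k ((h.hp.coprime_iff_not_dvd.2 hx).symm)).dvd_of_dvd_mul_left
        (h.card ▸ orderOf_dvd_natCard x)
    · exact h.not_dvd (hd.trans (orderOf_dvd_of_pow_eq_one hx))
  have hf := CfsgLib.frobenius_solutions (G := H) ((p ^ k) ^ 2 - 1)
  rw [Nat.gcd_eq_left (h.card ▸ dvd_mul_left _ _), Nat.card_eq_fintype_card, Fintype.card_subtype,
    ← hset] at hf
  have htot := card_filter_add_card_filter_not (s := (univ : Finset H)) (p := fun x => p ∣ orderOf x)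
  rw [card_univ, h.fcard] at htot
  exact (Nat.dvd_add_left hf).1 (htot ▸ dvd_mul_left _ _)

theorem exists_order_p : ∃ x : H, orderOf x = p := by
  haveI : Fact p.Prime := ⟨h.hp⟩
  exact exists_prime_orderOf_dvd_card' p (h.card ▸ dvd_mul_of_dvd_left (dvd_pow_self p h.hk.ne') _)

theorem cnt_p_mod : p ∣ cnt H p + 1 := by
  have hf := CfsgLib.frobenius_solutions (G := H) p
  rw [Nat.gcd_eq_left (h.card ▸ dvd_mul_of_dvd_left (dvd_pow_self p h.hk.ne') _),
    Nat.card_eq_fintype_card, Fintype.card_subtype] at hf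
  have hset : (univ.filter fun x : H => x ^ p = 1) = insert 1 (univ.filter fun x : H => orderOf x = p) := by
    haveI : Fact p.Prime := ⟨h.hp⟩
    ext x
    simp only [mem_filter, mem_univ, true_and, Finset.mem_insert]
    refine ⟨fun e => ?_, fun e => ?_⟩
    · rcases eq_or_ne x 1 with rfl | hx
      · exact Or.inl rfl
      · exact Or.inr (orderOf_eq_prime e hx)
    · rcases e with rfl | e
      · exact one_pow p
      · rw [← e, pow_orderOf_eq_one]
  rwa [hset, card_insert_of_notMem (by simp [h.hp.ne_one.symm])] at hf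

theorem sum_cnt : ∑ n ∈ (univ : Finset H).image orderOf, cnt H n = p ^ k * ((p ^ k) ^ 2 - 1) := by
  rw [← h.fcard, ← card_univ]
  exact (card_eq_sum_card_image orderOf univ).symm

/-- Isolation gives the congruences. -/
theorem dvd_cnt_of_isolated (hiso : Isolated H p) {n : ℕ} (hn1 : n ≠ 1) (hnp : n ≠ p) :
    p ^ k ∣ cnt H n := by
  classical
  haveI : Fact p.Prime := ⟨h.hp⟩
  obtain ⟨P⟩ : Nonempty (Sylow p H) := inferInstance
  have hP : Nat.card (P : Subgroup H) = p ^ k := by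
    rw [Sylow.card_eq_multiplicity, h.card, Nat.factorization_mul (pow_ne_zero _ h.hp.ne_zero) h.sq_pos.ne',
      Finsupp.add_apply, h.hp.factorization_pow, Finsupp.single_eq_same,
      Nat.factorization_eq_zero_of_not_dvd h.not_dvd, add_zero]
  set X := univ.filter fun x : H => orderOf x = n with hX
  have hfree : ∀ g : H, g ∈ (P : Subgroup H) → ∀ x ∈ X, g * x * g⁻¹ = x → g = 1 := by
    intro g hg x hx e
    by_contra hg1
    obtain ⟨j, hj⟩ := IsPGroup.iff_orderOf.1 P.2 ⟨g, hg⟩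
    rw [Subgroup.orderOf_mk] at hj
    have hpg : p ∣ orderOf g := by
      rw [hj]
      exact dvd_pow_self p fun h0 => hg1 (orderOf_eq_one_iff.1 (by rw [hj, h0, pow_zero]))
    have hxn := (mem_filter.1 hx).2
    have hx1 : x ≠ 1 := fun e1 => hn1 (by rw [← hxn, e1, orderOf_one])
    have hc : Commute g x := mul_inv_eq_iff_eq_mul.1 e
    have hxp : ¬ p ∣ orderOf x := fun hd => hnp (hxn.symm.trans (hiso x hd))
    have hgp := hiso g hpg
    have hcop : Nat.Coprime (orderOf g) (orderOf x) := by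
      rw [hgp]; exact h.hp.coprime_iff_not_dvd.2 hxp
    have hmul := hc.orderOf_mul_eq_mul_orderOf_of_coprime hcop
    have hgx := hiso (g * x) (hmul ▸ hgp ▸ dvd_mul_right _ _)
    rw [hmul, hgp] at hgx
    have : orderOf x = 1 := by
      refine Nat.eq_of_mul_eq_mul_left h.hp.pos ?_
      rw [hgx, mul_one]
    exact hx1 (orderOf_eq_one_iff.1 this)
  show p ^ k ∣ X.card
  rw [card_eq_sum_card_image (fun x => univ.filter fun y : H => ∃ g ∈ (P : Subgroup H), g * x * g⁻¹ = y) X]
  refine dvd_sum fun O hO => dvd_of_eq ?_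
  obtain ⟨x, hx, rfl⟩ := mem_image.1 hO
  rw [← hP, Nat.card_eq_fintype_card, Fintype.card_subtype]
  refine card_bij (fun g _ => g * x * g⁻¹) ?_ ?_ ?_
  · intro g hg
    simp only [mem_filter, mem_univ, true_and] at hg
    refine mem_filter.2 ⟨mem_filter.2 ⟨mem_univ _, ?_⟩, ?_⟩
    · exact ((MulAut.conj g).orderOf_eq x).trans (mem_filter.1 hx).2
    · refine filter_congr fun y _ => ⟨?_, ?_⟩
      · rintro ⟨a, ha, rfl⟩
        exact ⟨a * g, mul_mem ha hg, by group⟩
      · rintro ⟨a, ha, rfl⟩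
        exact ⟨a * g⁻¹, mul_mem ha (inv_mem hg), by group⟩
  · intro g hg g' hg' e
    simp only [mem_filter, mem_univ, true_and] at hg hg'
    refine (inv_mul_eq_one.1 (hfree (g⁻¹ * g') (mul_mem (inv_mem hg) hg') x hx ?_))
    have e' : g' * x * g'⁻¹ = g * x * g⁻¹ := e.symm
    calc g⁻¹ * g' * x * (g⁻¹ * g')⁻¹ = g⁻¹ * (g' * x * g'⁻¹) * g := by group
      _ = x := by rw [e']; group
  · intro y hy
    obtain ⟨hy1, hy2⟩ := mem_filter.1 hy
    have : y ∈ univ.filter fun z : H => ∃ g ∈ (P : Subgroup H), g * y * g⁻¹ = z :=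
      mem_filter.2 ⟨mem_univ _, 1, one_mem _, by group⟩
    rw [hy2] at this
    obtain ⟨-, g, hg, e⟩ := mem_filter.1 this
    exact ⟨g, by simpa using hg, e⟩

/-- Isolation gives the number of elements of order `p`. -/
theorem cnt_p_of_isolated (hiso : Isolated H p) : cnt H p = (p ^ k) ^ 2 - 1 := by
  have hd : (p ^ k) ^ 2 - 1 ∣ cnt H p := by
    have := h.dvd_singular
    rwa [show (univ.filter fun x : H => p ∣ orderOf x) = univ.filter fun x : H => orderOf x = p from
      filter_congr fun x _ => ⟨hiso x, fun e => e.symm.dvd⟩] at this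
  obtain ⟨m, hm⟩ := hd
  obtain ⟨x0, hx0⟩ := h.exists_order_p
  have hpmem : p ∈ (univ : Finset H).image orderOf := mem_image.2 ⟨x0, mem_univ _, hx0⟩
  have h1mem : 1 ∈ ((univ : Finset H).image orderOf).erase p :=
    mem_erase.2 ⟨h.hp.ne_one.symm, mem_image.2 ⟨1, mem_univ _, orderOf_one⟩⟩
  have hsum := h.sum_cnt
  rw [← add_sum_erase _ _ hpmem, ← add_sum_erase _ _ h1mem, cnt_one, hm] at hsum
  have hrest : p ^ k ∣ ∑ n ∈ (((univ : Finset H).image orderOf).erase p).erase 1, cnt H n :=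
    dvd_sum fun n hn => by
      simp only [mem_erase] at hn
      exact h.dvd_cnt_of_isolated hiso hn.1 hn.2.1
  obtain ⟨r, hr⟩ := hrest
  rw [hr] at hsum
  have hq := h.three_le
  have hQ := h.sq_pos
  -- the number is congruent to `-1` modulo `q` and a multiple of `q ^ 2 - 1`
  have hm0 : 0 < m := by
    rcases Nat.eq_zero_or_pos m with e | e
    · rw [e, mul_zero] at hm
      exact absurd hm (cnt_pos_iff.2 h.exists_order_p).ne'
    · exact e
  have hle : ((p ^ k) ^ 2 - 1) * m < p ^ k * ((p ^ k) ^ 2 - 1) := by omega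
  have hmq : m < p ^ k := by
    rw [mul_comm (p ^ k)] at hle
    exact Nat.lt_of_mul_lt_mul_left hle
  have hmod : ((((p ^ k) ^ 2 - 1) * m + (1 + p ^ k * r) : ℕ) : ZMod (p ^ k)) =
      ((p ^ k * ((p ^ k) ^ 2 - 1) : ℕ) : ZMod (p ^ k)) := by rw [hsum]
  rw [Nat.cast_add, Nat.cast_add, Nat.cast_mul, Nat.cast_mul, Nat.cast_mul,
    Nat.cast_sub (show 1 ≤ (p ^ k) ^ 2 by omega), Nat.cast_one, Nat.cast_pow (p ^ k) 2,
    ZMod.natCast_self] at hmod
  have hm1 : ((m : ℕ) : ZMod (p ^ k)) = ((1 : ℕ) : ZMod (p ^ k)) := by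
    rw [Nat.cast_one]
    linear_combination -hmod
  have := (ZMod.natCast_eq_natCast_iff' m 1 (p ^ k)).1 hm1
  rw [Nat.mod_eq_of_lt hmq, Nat.mod_eq_of_lt (by omega : 1 < p ^ k)] at this
  rw [hm, this, mul_one]

/-- The possible numbers of elements of given order force isolation. -/
theorem isolated_of_vals (hV : ∀ n, 0 < cnt H n → cnt H n = 1 ∨ cnt H n = (p ^ k) ^ 2 - 1 ∨ p ^ k ∣ cnt H n)
    (h2 : cnt H 2 ≠ 1) : cnt H p = (p ^ k) ^ 2 - 1 ∧ Isolated H p := by
  have hq := h.three_le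
  have hQ := h.sq_pos
  have hpodd : Odd p := h.hp.odd_of_ne_two h.odd
  have hp3 : 3 ≤ p := by have := h.hp.two_le; have := h.odd; omega
  have hnp : ∀ c, p ∣ c + 1 → ¬ p ^ k ∣ c := fun c hc hd => by
    have := Nat.dvd_sub hc ((dvd_pow_self p h.hk.ne').trans hd)
    rw [Nat.add_sub_cancel_left] at this
    exact h.hp.one_lt.ne' (Nat.dvd_one.1 this)
  have hcp : cnt H p = (p ^ k) ^ 2 - 1 := by
    rcases hV p (cnt_pos_iff.2 h.exists_order_p) with e | e | e
    · have := even_cnt (H := H) hp3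
      rw [e] at this
      exact absurd this (by decide)
    · exact e
    · exact absurd e (hnp _ h.cnt_p_mod)
  refine ⟨hcp, fun x hx => ?_⟩
  set N := (univ : Finset H).image orderOf with hN
  have h1N : 1 ∈ N := mem_image.2 ⟨1, mem_univ _, orderOf_one⟩
  -- only `p` has `q ^ 2 - 1` elements
  have hval : ∀ n ∈ N.erase 1, cnt H n = (p ^ k) ^ 2 - 1 ∨ p ^ k ∣ cnt H n := by
    intro n hn
    obtain ⟨hn1, hnN⟩ := mem_erase.1 hn
    obtain ⟨y, -, rfl⟩ := mem_image.1 hnN
    rcases hV _ (cnt_pos_iff.2 ⟨y, rfl⟩) with e | e | e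
    · exfalso
      have hy0 := orderOf_pos y
      rcases (by omega : orderOf y = 2 ∨ 3 ≤ orderOf y) with e2 | e2
      · exact h2 (by rw [← e2, e])
      · have := even_cnt (H := H) e2
        rw [e] at this
        exact absurd this (by decide)
    · exact Or.inl e
    · exact Or.inr e
  set S := (N.erase 1).filter fun n => cnt H n = (p ^ k) ^ 2 - 1 with hS
  obtain ⟨x0, hx0⟩ := h.exists_order_p
  have hpS : p ∈ S :=
    mem_filter.2 ⟨mem_erase.2 ⟨h.hp.ne_one, mem_image.2 ⟨x0, mem_univ _, hx0⟩⟩, hcp⟩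
  have hsum := h.sum_cnt
  rw [← hN, ← add_sum_erase _ _ h1N, cnt_one, ← sum_filter_add_sum_filter_not (N.erase 1)
    (fun n => cnt H n = (p ^ k) ^ 2 - 1), sum_const_nat (fun n hn => (mem_filter.1 hn).2), ← hS] at hsum
  obtain ⟨r, hr⟩ : p ^ k ∣ ∑ n ∈ (N.erase 1).filter fun n => ¬ cnt H n = (p ^ k) ^ 2 - 1, cnt H n :=
    dvd_sum fun n hn => ((hval n (mem_filter.1 hn).1).resolve_left (mem_filter.1 hn).2)
  rw [hr] at hsum
  have hSlt : S.card < p ^ k := by
    have hle : ((p ^ k) ^ 2 - 1) * S.card < ((p ^ k) ^ 2 - 1) * p ^ k := by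
      rw [mul_comm _ S.card, mul_comm _ (p ^ k), ← hsum]
      omega
    exact Nat.lt_of_mul_lt_mul_left hle
  have hmod : (((1 + (S.card * ((p ^ k) ^ 2 - 1) + p ^ k * r)) : ℕ) : ZMod (p ^ k)) =
      ((p ^ k * ((p ^ k) ^ 2 - 1) : ℕ) : ZMod (p ^ k)) := by rw [hsum]
  rw [Nat.cast_add, Nat.cast_add, Nat.cast_mul, Nat.cast_mul, Nat.cast_mul,
    Nat.cast_sub (show 1 ≤ (p ^ k) ^ 2 by omega), Nat.cast_one, Nat.cast_pow (p ^ k) 2,
    ZMod.natCast_self] at hmod
  have hS1 : ((S.card : ℕ) : ZMod (p ^ k)) = ((1 : ℕ) : ZMod (p ^ k)) := by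
    rw [Nat.cast_one]
    linear_combination -hmod
  have hScard := (ZMod.natCast_eq_natCast_iff' S.card 1 (p ^ k)).1 hS1
  rw [Nat.mod_eq_of_lt hSlt, Nat.mod_eq_of_lt (by omega : 1 < p ^ k)] at hScard
  -- the remaining singular elements
  by_contra hxp
  set T := (univ.filter fun y : H => p ∣ orderOf y).filter fun y => ¬ orderOf y = p with hT
  have hTdvd : (p ^ k) ^ 2 - 1 ∣ T.card := by
    have hd := h.dvd_singular
    rw [← card_filter_add_card_filter_not (p := fun y : H => orderOf y = p), ← hT, filter_filter,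
      show (univ.filter fun y : H => p ∣ orderOf y ∧ orderOf y = p) = univ.filter fun y : H => orderOf y = p
        from filter_congr fun y _ => ⟨fun e => e.2, fun e => ⟨e.symm.dvd, e⟩⟩] at hd
    exact (Nat.dvd_add_right (show (p ^ k) ^ 2 - 1 ∣ cnt H p by rw [hcp])).1 hd
  have hTq : p ^ k ∣ T.card := by
    rw [card_eq_sum_card_image orderOf T]
    refine dvd_sum fun n hn => ?_
    obtain ⟨y, hy, rfl⟩ := mem_image.1 hn
    obtain ⟨hy1, hy2⟩ := mem_filter.1 hy
    have hy1' := (mem_filter.1 hy1).2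
    rw [show T.filter (fun a => orderOf a = orderOf y) = univ.filter fun a : H => orderOf a = orderOf y by
      ext a
      simp only [hT, mem_filter, mem_univ, true_and]
      exact ⟨fun e => e.2, fun e => ⟨⟨e ▸ hy1', e ▸ hy2⟩, e⟩⟩]
    have hy3 : orderOf y ∈ N.erase 1 := mem_erase.2
      ⟨fun e => h.hp.ne_one (Nat.dvd_one.1 (e ▸ hy1')), mem_image.2 ⟨y, mem_univ _, rfl⟩⟩
    refine (hval _ hy3).resolve_left fun e => hy2 ?_
    exact card_le_one.1 hScard.le _ (mem_filter.2 ⟨hy3, e⟩) _ hpS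
  have hpos : 0 < T.card := card_pos.2 ⟨x, mem_filter.2 ⟨mem_filter.2 ⟨mem_univ _, hx⟩, hxp⟩⟩
  have hall := Nat.le_of_dvd hpos (h.coprime.mul_dvd_of_dvd_of_dvd hTdvd hTq)
  have hlt : T.card < Fintype.card H := by
    rw [← card_univ]
    refine card_lt_card ⟨subset_univ _, fun hs => ?_⟩
    have := hs (mem_univ (1 : H))
    simp only [hT, mem_filter, mem_univ, true_and, orderOf_one] at this
    exact h.hp.ne_one (Nat.dvd_one.1 this.1)
  rw [h.fcard, mul_comm (p ^ k)] at hlt
  omega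

end Ord

end CfsgLib.NsePGL
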