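import Cfsg.Agent.Lib.NsePGL.Count
import Cfsg.Agent.Lib.Perm.SharpPGL

/-!
Groups of order `q (q ^ 2 - 1)` with isolated elements of order `p` and many involutions.
-/

set_option autoImplicit false
set_option linter.unusedSectionVars false
set_option linter.style.haveILetI false

open scoped Pointwise

namespace CfsgLib.NsePGL

open Finset

universe u

variable {G : Type u} [Group G] [Fintype G] [DecidableEq G] {p k : ℕ}

/-- Standing hypotheses. -/
structure Iso (G : Type u) [Group G] [Fintype G] [DecidableEq G] (p k : ℕ) : Prop extends Ord G p k where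
  iso : Isolated G p
  inv : (p ^ k) ^ 2 ≤ cnt G 2

namespace Iso

variable (h : Iso G p k) [Fact p.Prime]
include h

theorem cnt_p : cnt G p = (p ^ k) ^ 2 - 1 := h.toOrd.cnt_p_of_isolated h.iso

theorem card_sylow (P : Sylow p G) : Nat.card (P : Subgroup G) = p ^ k := by
  rw [Sylow.card_eq_multiplicity, h.card, Nat.factorization_mul (pow_ne_zero _ h.hp.ne_zero) h.toOrd.sq_pos.ne',
    Finsupp.add_apply, h.hp.factorization_pow, Finsupp.single_eq_same,
    Nat.factorization_eq_zero_of_not_dvd h.toOrd.not_dvd, add_zero]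

theorem orderOf_mem {P : Sylow p G} {u : G} (hu : u ∈ P) (hu1 : u ≠ 1) : orderOf u = p := by
  obtain ⟨j, hj⟩ := IsPGroup.iff_orderOf.1 P.2 ⟨u, hu⟩
  rw [Subgroup.orderOf_mk] at hj
  refine h.iso u ?_
  rw [hj]
  exact dvd_pow_self p fun h0 => hu1 (orderOf_eq_one_iff.1 (by rw [hj, h0, pow_zero]))

theorem isPGroup_cent {u : G} (hu : orderOf u = p) : IsPGroup p (Subgroup.centralizer ({u} : Set G)) := by
  rw [IsPGroup.iff_orderOf]
  rintro ⟨x, hx⟩
  by_cases hd : p ∣ orderOf x
  · exact ⟨1, by rw [Subgroup.orderOf_mk, h.iso x hd, pow_one]⟩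
  refine ⟨0, ?_⟩
  have hc : Commute x u := Subgroup.mem_centralizer_singleton_iff.1 hx
  have hmul := hc.orderOf_mul_eq_mul_orderOf_of_coprime
    (by rw [hu]; exact (h.hp.coprime_iff_not_dvd.2 hd).symm)
  have := h.iso (x * u) (hmul ▸ hu ▸ dvd_mul_left _ _)
  rw [hmul, hu] at this
  rw [Subgroup.orderOf_mk, pow_zero]
  exact Nat.eq_of_mul_eq_mul_right h.hp.pos (by rw [this, one_mul])

/-- The centraliser of a central element of a Sylow subgroup. -/
theorem cent_eq {P : Sylow p G} {u : G} (hu : u ∈ P) (hu1 : u ≠ 1)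
    (hc : ∀ x ∈ (P : Subgroup G), x * u = u * x) : Subgroup.centralizer ({u} : Set G) = P :=
  P.is_maximal' (h.isPGroup_cent (h.orderOf_mem hu hu1))
    fun x hx => Subgroup.mem_centralizer_singleton_iff.2 (hc x hx)

theorem exists_central (P : Sylow p G) :
    ∃ z ∈ P, z ≠ 1 ∧ ∀ x ∈ (P : Subgroup G), x * z = z * x := by
  haveI : Nontrivial (P : Subgroup G) := by
    rw [← Finite.one_lt_card_iff_nontrivial, h.card_sylow]
    exact Nat.one_lt_pow h.hk.ne' h.hp.one_lt
  haveI := P.2.center_nontrivial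
  obtain ⟨⟨z, hz⟩, hz1⟩ := exists_ne (1 : Subgroup.center (P : Subgroup G))
  exact ⟨z, z.2, fun e => hz1 (Subtype.ext (Subtype.ext e)),
    fun x hx => congrArg Subtype.val (Subgroup.mem_center_iff.1 hz ⟨x, hx⟩)⟩

/-- There is only one class of elements of order `p`. -/
theorem exists_conj {P : Sylow p G} {z y : G} (hz : z ∈ P) (hz1 : z ≠ 1)
    (hc : ∀ x ∈ (P : Subgroup G), x * z = z * x) (hy : orderOf y = p) : ∃ g : G, g * z * g⁻¹ = y := by
  classical
  set K := univ.image fun g : G => g * z * g⁻¹ with hK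
  have hKle : K ⊆ univ.filter fun x : G => orderOf x = p := fun x hx => by
    obtain ⟨g, -, rfl⟩ := mem_image.1 hx
    exact mem_filter.2 ⟨mem_univ _, ((MulAut.conj g).orderOf_eq z).trans (h.orderOf_mem hz hz1)⟩
  have hcardK : Fintype.card G = K.card * p ^ k := by
    rw [← card_univ, card_eq_sum_card_fiberwise (f := fun g : G => g * z * g⁻¹) (t := K)
      fun g _ => mem_image_of_mem _ (mem_univ g), sum_const_nat]
    intro v hv
    obtain ⟨c, -, rfl⟩ := mem_image.1 hv
    rw [← h.card_sylow P, ← h.cent_eq hz hz1 hc, Nat.card_eq_fintype_card, Fintype.card_subtype]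
    refine (card_equiv (Equiv.mulLeft c) fun g => ?_).symm
    simp only [mem_filter, mem_univ, true_and, Equiv.coe_mulLeft, Subgroup.mem_centralizer_singleton_iff]
    constructor
    · intro e
      rw [show c * g * z * (c * g)⁻¹ = c * (g * z) * g⁻¹ * c⁻¹ by group, e]
      group
    · intro e
      have e' : c * (g * z * g⁻¹) * c⁻¹ = c * z * c⁻¹ := by rw [← e]; group
      exact mul_inv_eq_iff_eq_mul.1 (mul_left_cancel (mul_right_cancel e'))
  rw [h.toOrd.fcard, mul_comm] at hcardK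
  have hKc := Nat.eq_of_mul_eq_mul_right (pow_pos h.hp.pos k) hcardK
  have : K = univ.filter fun x : G => orderOf x = p :=
    eq_of_subset_of_card_le hKle (by rw [← hKc]; exact h.cnt_p.le)
  obtain ⟨g, -, hg⟩ := mem_image.1 (this.symm ▸ mem_filter.2 ⟨mem_univ _, hy⟩ : y ∈ K)
  exact ⟨g, hg⟩

theorem comm (P : Sylow p G) : ∀ a ∈ (P : Subgroup G), ∀ b ∈ (P : Subgroup G), a * b = b * a := by
  obtain ⟨z, hz, hz1, hc⟩ := h.exists_central P
  have hzo := h.orderOf_mem hz hz1
  obtain ⟨g, hg⟩ := h.exists_conj hz hz1 hc (y := z⁻¹) (by rw [orderOf_inv, hzo])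
  have hgeven : 2 ∣ orderOf g := by
    by_contra hodd
    have h2 : g ^ 2 * z = z * g ^ 2 := by
      have e1 : g * z = z⁻¹ * g := by rw [← hg]; group
      have e2 : g * z⁻¹ = z * g := by
        calc g * z⁻¹ = z * (z⁻¹ * g) * z⁻¹ := by group
          _ = z * g := by rw [← e1]; group
      calc g ^ 2 * z = g * (g * z) := by rw [pow_two, mul_assoc]
        _ = g * z⁻¹ * g := by rw [e1, mul_assoc]
        _ = z * g ^ 2 := by rw [e2, pow_two, mul_assoc]
    have hgz : g * z = z * g := by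
      have hmem : g ∈ Subgroup.zpowers (g ^ 2) := by
        obtain ⟨m, hm⟩ := exists_pow_eq_self_of_coprime ((Nat.prime_two.coprime_iff_not_dvd).2 hodd)
        exact ⟨m, by simpa [zpow_natCast] using hm⟩
      obtain ⟨m, hm⟩ := hmem
      exact hm ▸ (show Commute (g ^ 2) z from h2).zpow_left m
    rw [hgz, mul_inv_cancel_right] at hg
    have h2' : z ^ 2 = 1 := by
      rw [pow_two]
      nth_rewrite 2 [hg]
      exact mul_inv_cancel z
    have := Nat.le_of_dvd (by norm_num) (hzo ▸ orderOf_dvd_of_pow_eq_one h2')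
    have := h.hp.two_le
    have := h.odd
    omega
  obtain ⟨m, hm⟩ := hgeven
  have hm0 : 0 < m := by have := orderOf_pos g; omega
  set t := g ^ m with ht
  have ht2 : orderOf t = 2 := by
    rw [ht, orderOf_pow_of_dvd hm0.ne' (Dvd.intro_left 2 hm.symm), hm, Nat.mul_div_left _ hm0]
  -- `g` normalises `P`
  have hgP : ∀ x ∈ (P : Subgroup G), g * x * g⁻¹ ∈ (P : Subgroup G) := fun x hx => by
    rw [← h.cent_eq (P := P) (u := z⁻¹) (inv_mem hz) (inv_ne_one.2 hz1)
      fun y hy => ((show Commute y z from hc y hy).inv_right).eq, Subgroup.mem_centralizer_singleton_iff, ← hg]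
    have := hc x hx
    calc g * x * g⁻¹ * (g * z * g⁻¹) = g * (x * z) * g⁻¹ := by group
      _ = g * z * g⁻¹ * (g * x * g⁻¹) := by rw [this]; group
  have htP : ∀ x ∈ (P : Subgroup G), t * x * t⁻¹ ∈ (P : Subgroup G) := by
    have : ∀ j : ℕ, ∀ x ∈ (P : Subgroup G), g ^ j * x * (g ^ j)⁻¹ ∈ (P : Subgroup G) := fun j => by
      induction j with
      | zero => intro x hx; simpa using hx
      | succ j ih =>
        intro x hx
        rw [show g ^ (j + 1) * x * (g ^ (j + 1))⁻¹ = g ^ j * (g * x * g⁻¹) * (g ^ j)⁻¹ by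
          rw [pow_succ]; group]
        exact ih _ (hgP x hx)
    exact this m
  have ht' : t * t = 1 := by rw [← pow_two, ← ht2, pow_orderOf_eq_one]
  let φ : ↥(P : Subgroup G) → ↥(P : Subgroup G) := fun x => ⟨t * x * t⁻¹, htP x x.2⟩
  have hfpf : ∀ x, φ x = x → x = 1 := by
    intro x hx
    by_contra hx1
    have hxo : orderOf (x : G) = p := h.orderOf_mem x.2 (fun e => hx1 (Subtype.ext e))
    have hcx : Commute t (x : G) := mul_inv_eq_iff_eq_mul.1 (congrArg Subtype.val hx)
    obtain ⟨j, hj⟩ := IsPGroup.iff_orderOf.1 (h.isPGroup_cent hxo)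
      ⟨t, Subgroup.mem_centralizer_singleton_iff.2 hcx.eq⟩
    rw [Subgroup.orderOf_mk, ht2] at hj
    rcases Nat.eq_zero_or_pos j with rfl | hj0
    · simp at hj
    · have := Nat.le_of_dvd (by norm_num) (hj ▸ dvd_pow_self p hj0.ne' : p ∣ 2)
      have := h.hp.two_le
      have := h.odd
      omega
  let ψ : ↥(P : Subgroup G) → ↥(P : Subgroup G) := fun x => x⁻¹ * φ x
  have hψ : Function.Injective ψ := fun x y e => by
    refine mul_inv_eq_one.1 (hfpf (x * y⁻¹) (Subtype.ext ?_))
    have e' : (x : G)⁻¹ * (t * x * t⁻¹) = (y : G)⁻¹ * (t * y * t⁻¹) := congrArg Subtype.val e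
    show t * ((x : G) * (y : G)⁻¹) * t⁻¹ = (x : G) * (y : G)⁻¹
    calc t * ((x : G) * (y : G)⁻¹) * t⁻¹
        = (x : G) * ((x : G)⁻¹ * (t * x * t⁻¹)) * (t * y * t⁻¹)⁻¹ := by group
      _ = (x : G) * ((y : G)⁻¹ * (t * y * t⁻¹)) * (t * y * t⁻¹)⁻¹ := by rw [e']
      _ = (x : G) * (y : G)⁻¹ := by group
  have hinv : ∀ w ∈ (P : Subgroup G), t * w * t⁻¹ = w⁻¹ := by
    intro w hw
    obtain ⟨x, hx⟩ := (Finite.injective_iff_surjective.1 hψ) ⟨w, hw⟩
    have e : (x : G)⁻¹ * (t * x * t⁻¹) = w := congrArg Subtype.val hx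
    rw [← e, inv_eq_of_mul_eq_one_right ht']
    calc t * ((x : G)⁻¹ * (t * x * t)) * t = t * (x : G)⁻¹ * t * x * (t * t) := by group
      _ = t * (x : G)⁻¹ * t * x := by rw [ht', mul_one]
      _ = ((x : G)⁻¹ * (t * x * t))⁻¹ := by
        rw [mul_inv_rev, mul_inv_rev, mul_inv_rev, inv_inv, inv_eq_of_mul_eq_one_right ht']
        group
  intro a ha b hb
  have e := hinv (a * b) (mul_mem ha hb)
  rw [show t * (a * b) * t⁻¹ = t * a * t⁻¹ * (t * b * t⁻¹) by group, hinv a ha, hinv b hb] at e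
  have e' := congrArg (·⁻¹) e
  exact (show a * b = b * a by simpa [mul_inv_rev] using e'.symm)

/-- Every non-identity element of a Sylow subgroup has this subgroup as centraliser. -/
theorem cent {P : Sylow p G} {u : G} (hu : u ∈ P) (hu1 : u ≠ 1) :
    Subgroup.centralizer ({u} : Set G) = P :=
  h.cent_eq hu hu1 fun x hx => h.comm P x hx u hu

theorem sylow_ti {P Q : Sylow p G} {u : G} (hP : u ∈ P) (hQ : u ∈ Q) (hu1 : u ≠ 1) : P = Q :=
  Sylow.ext ((h.cent hP hu1).symm.trans (h.cent hQ hu1))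

theorem exists_sylow_mem {u : G} (hu : orderOf u = p) : ∃ P : Sylow p G, u ∈ P := by
  obtain ⟨P, hP⟩ := IsPGroup.exists_le_sylow (p := p) (P := Subgroup.zpowers u)
    (IsPGroup.of_card (n := 1) (by rw [Nat.card_zpowers, hu, pow_one]))
  exact ⟨P, hP (Subgroup.mem_zpowers u)⟩

theorem card_points [Fintype (Sylow p G)] : Fintype.card (Sylow p G) = p ^ k + 1 := by
  classical
  have hne : ∀ u : G, orderOf u = p → u ≠ 1 := fun u hu e => h.hp.ne_one (by rw [← hu, e, orderOf_one])
  have hsum : cnt G p = ∑ P : Sylow p G, ((univ.filter fun u : G => u ∈ P).erase 1).card := by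
    rw [← card_sigma]
    refine (card_bij (fun x _ => x.2) ?_ ?_ ?_).symm
    · intro x hx
      simp only [mem_sigma, mem_univ, true_and, mem_erase, mem_filter] at hx
      exact mem_filter.2 ⟨mem_univ _, h.orderOf_mem hx.2 hx.1⟩
    · rintro ⟨P, u⟩ hx ⟨Q, v⟩ hy (rfl : u = v)
      simp only [mem_sigma, mem_univ, true_and, mem_erase, mem_filter] at hx hy
      obtain rfl := h.sylow_ti hx.2 hy.2 hx.1
      rfl
    · intro u hu
      obtain ⟨P, hP⟩ := h.exists_sylow_mem (mem_filter.1 hu).2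
      exact ⟨⟨P, u⟩, mem_sigma.2 ⟨mem_univ _, mem_erase.2 ⟨hne u (mem_filter.1 hu).2,
        mem_filter.2 ⟨mem_univ _, hP⟩⟩⟩, rfl⟩
  rw [sum_const_nat (m := p ^ k - 1) fun P _ => ?_, card_univ, h.cnt_p] at hsum
  · have h3 := h.toOrd.three_le
    refine Nat.eq_of_mul_eq_mul_right (show 0 < p ^ k - 1 by omega) ?_
    rw [← hsum, ← Nat.sq_sub_sq, one_pow]
  · rw [card_erase_of_mem (mem_filter.2 ⟨mem_univ _, one_mem _⟩), ← h.card_sylow P,
      Nat.card_eq_fintype_card, Fintype.card_subtype]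
    rfl

theorem mem_smul {g x : G} {P : Sylow p G} : x ∈ g • P ↔ g⁻¹ * x * g ∈ P := by
  show x ∈ MulAut.conj g • (P : Subgroup G) ↔ _
  rw [Subgroup.mem_pointwise_smul_iff_inv_smul_mem, MulAut.smul_def, MulAut.conj_inv_apply]
  rfl

theorem fix_self {P : Sylow p G} {a : G} (ha : a ∈ P) : a • P = P :=
  Sylow.smul_eq_iff_mem_normalizer.2 (Subgroup.le_normalizer ha)

theorem semireg {P Q : Sylow p G} {a : G} (ha : a ∈ P) (hPQ : P ≠ Q) (e : a • Q = Q) : a = 1 := by
  by_contra ha1
  have hN := Sylow.smul_eq_iff_mem_normalizer.1 e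
  have : a ∈ (P : Subgroup G) ⊓ (Q : Subgroup G) := by
    rw [← IsPGroup.inf_normalizer_sylow P.2 Q]
    exact ⟨ha, hN⟩
  exact hPQ (h.sylow_ti ha this.2 ha1)

theorem exists_move [Fintype (Sylow p G)] {A B C : Sylow p G} (hAB : B ≠ A) (hAC : C ≠ A) :
    ∃ a ∈ (A : Subgroup G), a • B = C := by
  classical
  let f : ↥(A : Subgroup G) → {Q : Sylow p G // Q ≠ A} := fun a => ⟨(a : G) • B, fun e => hAB (by
    have := congrArg ((a : G)⁻¹ • ·) e
    simp only [inv_smul_smul] at this
    rw [this]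
    exact h.fix_self (inv_mem a.2))⟩
  have hf : Function.Injective f := fun a b e => by
    have e' : (a : G) • B = (b : G) • B := congrArg Subtype.val e
    refine Subtype.ext (inv_mul_eq_one.1 (h.semireg (P := A) (mul_mem (inv_mem a.2) b.2) (Ne.symm hAB) ?_))
    rw [mul_smul, ← e', inv_smul_smul]
  have hbij := (Fintype.bijective_iff_injective_and_card f).2 ⟨hf, by
    rw [Fintype.card_subtype_compl, Fintype.card_subtype_eq, h.card_points, ← Nat.card_eq_fintype_card,
      h.card_sylow]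
    omega⟩
  obtain ⟨a, ha⟩ := hbij.2 ⟨C, hAC⟩
  exact ⟨a, a.2, congrArg Subtype.val ha⟩

theorem eq_one_of_three [Fintype (Sylow p G)] {g : G} {A B C : Sylow p G} (hAB : B ≠ A) (hAC : C ≠ A)
    (hBC : B ≠ C) (hA : g • A = A) (hB : g • B = B) (hC : g • C = C) : g = 1 := by
  obtain ⟨a, ha, e⟩ := h.exists_move hAB hAC
  have ha1 : a ≠ 1 := fun e1 => hBC (by rw [← e, e1, one_smul])
  have hga : g * a * g⁻¹ ∈ (A : Subgroup G) := by
    have : g * a * g⁻¹ ∈ g • A := h.mem_smul.2 (by rw [show g⁻¹ * (g * a * g⁻¹) * g = a by group]; exact ha)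
    rwa [hA] at this
  have h1 : a⁻¹ * (g * a * g⁻¹) = 1 := h.semireg (mul_mem (inv_mem ha) hga) (Ne.symm hAB) (by
    rw [mul_smul, mul_smul, mul_smul, inv_smul_eq_iff.2 hB.symm, e, hC, ← e, inv_smul_smul])
  have hgA : g ∈ (A : Subgroup G) := by
    rw [← h.cent ha ha1, Subgroup.mem_centralizer_singleton_iff]
    exact mul_inv_eq_iff_eq_mul.1 (inv_mul_eq_one.1 h1).symm
  exact h.semireg hgA (Ne.symm hAB) hB

theorem pretrans_three [Fintype (Sylow p G)] :
    MulAction.IsMultiplyPretransitive G (Sylow p G) 3 := by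
  classical
  have hc : Fintype.card G = Fintype.card (Fin 3 ↪ Sylow p G) := by
    rw [Fintype.card_embedding_eq, Fintype.card_fin, h.card_points, h.toOrd.fcard]
    have h3 := h.toOrd.three_le
    obtain ⟨m, hm⟩ := Nat.exists_eq_add_of_le h3
    rw [hm]
    simp only [Nat.descFactorial_succ, Nat.descFactorial_zero, mul_one, Nat.sub_zero]
    rw [show 3 + m + 1 - 2 = m + 2 by omega, show 3 + m + 1 - 1 = m + 3 by omega,
      show (3 + m) ^ 2 - 1 = (m + 4) * (m + 2) by
        rw [Nat.sub_eq_iff_eq_add (Nat.one_le_iff_ne_zero.2 (by positivity))]; ring]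
    ring
  obtain ⟨x⟩ : Nonempty (Fin 3 ↪ Sylow p G) := by
    rw [← Fintype.card_pos_iff, ← hc]
    exact Fintype.card_pos
  have hinj : Function.Injective fun g : G => g • x := fun g g' e => by
    have e' : ∀ j, g • x j = g' • x j := fun j => DFunLike.congr_fun e j
    refine inv_mul_eq_one.1 (h.eq_one_of_three (g := g⁻¹ * g') (A := x 0) (B := x 1) (C := x 2)
      (fun e => by simpa using x.injective e) (fun e => by simpa using x.injective e)
      (fun e => by simpa using x.injective e) ?_ ?_ ?_) <;> rw [mul_smul, ← e', inv_smul_smul]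
  have hbij := (Fintype.bijective_iff_injective_and_card _).2 ⟨hinj, hc⟩
  refine ⟨fun y z => ?_⟩
  obtain ⟨a, rfl⟩ := hbij.2 y
  obtain ⟨b, rfl⟩ := hbij.2 z
  exact ⟨b * a⁻¹, by rw [mul_smul, inv_smul_smul]⟩

theorem exists_three [Fintype (Sylow p G)] {A B C A' B' C' : Sylow p G} (hAB : A ≠ B) (hAC : A ≠ C)
    (hBC : B ≠ C) (hAB' : A' ≠ B') (hAC' : A' ≠ C') (hBC' : B' ≠ C') :
    ∃ g : G, g • A = A' ∧ g • B = B' ∧ g • C = C' := by
  haveI := h.pretrans_three
  obtain ⟨g, hg⟩ := MulAction.exists_smul_eq G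
    (⟨![A, B, C], fun i j e => by
      fin_cases i <;> fin_cases j <;> simp_all [hAB, hAB.symm, hAC, hAC.symm, hBC, hBC.symm]⟩ : Fin 3 ↪ Sylow p G)
    ⟨![A', B', C'], fun i j e => by
      fin_cases i <;> fin_cases j <;> simp_all [hAB', hAB'.symm, hAC', hAC'.symm, hBC', hBC'.symm]⟩
  exact ⟨g, DFunLike.congr_fun hg 0, DFunLike.congr_fun hg 1, DFunLike.congr_fun hg 2⟩

/-- All elements exchanging two points are involutions. -/
theorem swap_sq [Fintype (Sylow p G)] {A B : Sylow p G} {g : G} (hAB : A ≠ B) (hA : g • A = B)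
    (hB : g • B = A) : g * g = 1 := by
  classical
  have hq := h.toOrd.three_le
  set Om : Finset (Sylow p G) := univ with hOm
  let Sw : Sylow p G × Sylow p G → Finset G := fun P =>
    univ.filter fun g => g • P.1 = P.2 ∧ g • P.2 = P.1
  let S : Sylow p G × Sylow p G → Finset G := fun P => (Sw P).filter fun g => orderOf g = 2
  have hSw : ∀ P ∈ Om.offDiag, (Sw P).card ≤ p ^ k - 1 := by
    intro P hP
    have hP' := (mem_offDiag.1 hP).2.2
    obtain ⟨C, hC1, hC2⟩ : ∃ C, C ≠ P.1 ∧ C ≠ P.2 := by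
      obtain ⟨C, -, hC⟩ := exists_mem_notMem_of_card_lt_card (s := ({P.1, P.2} : Finset (Sylow p G)))
        (t := univ) (lt_of_le_of_lt card_le_two (by rw [card_univ, h.card_points]; omega))
      simp only [Finset.mem_insert, mem_singleton, not_or] at hC
      exact ⟨C, hC.1, hC.2⟩
    have := card_le_card_of_injOn (fun g => g • C) (s := Sw P) (t := (univ.erase P.1).erase P.2)
      (fun g hg => by
        obtain ⟨h1, h2⟩ := (mem_filter.1 hg).2
        refine mem_erase.2 ⟨fun e => hC1 ?_, mem_erase.2 ⟨fun e => hC2 ?_, mem_univ _⟩⟩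
        · exact smul_left_cancel g (e.trans h1.symm)
        · exact smul_left_cancel g (e.trans h2.symm))
      (fun g hg g' hg' e => by
        obtain ⟨h1, h2⟩ := (mem_filter.1 hg).2
        obtain ⟨h1', h2'⟩ := (mem_filter.1 hg').2
        refine inv_mul_eq_one.1 (h.eq_one_of_three (g := g⁻¹ * g') (A := P.1) (B := P.2) (C := C)
          (Ne.symm hP') hC1 (Ne.symm hC2) ?_ ?_ ?_)
        · rw [mul_smul, h1', ← h1, inv_smul_smul]
        · rw [mul_smul, h2', ← h2, inv_smul_smul]
        · rw [mul_smul, ← show g • C = g' • C from e, inv_smul_smul])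
    rw [card_erase_of_mem (mem_erase.2 ⟨Ne.symm hP', mem_univ _⟩), card_erase_of_mem (mem_univ _),
      card_univ, h.card_points] at this
    omega
  have hconst : ∀ P ∈ Om.offDiag, ∀ Q ∈ Om.offDiag, (S P).card = (S Q).card := by
    intro P hP Q hQ
    have hP' := (mem_offDiag.1 hP).2.2
    have hQ' := (mem_offDiag.1 hQ).2.2
    have hthird : ∀ X Y : Sylow p G, ∃ C, C ≠ X ∧ C ≠ Y := fun X Y => by
      obtain ⟨C, -, hC⟩ := exists_mem_notMem_of_card_lt_card (s := ({X, Y} : Finset (Sylow p G)))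
        (t := univ) (lt_of_le_of_lt card_le_two (by rw [card_univ, h.card_points]; omega))
      simp only [Finset.mem_insert, mem_singleton, not_or] at hC
      exact ⟨C, hC.1, hC.2⟩
    obtain ⟨C, hC1, hC2⟩ := hthird P.1 P.2
    obtain ⟨C', hC1', hC2'⟩ := hthird Q.1 Q.2
    obtain ⟨c, hc1, hc2, -⟩ := h.exists_three hP' (Ne.symm hC1) (Ne.symm hC2) hQ' (Ne.symm hC1') (Ne.symm hC2')
    refine card_equiv (MulAut.conj c).toEquiv fun g => ?_
    simp only [S, Sw, mem_filter, mem_univ, true_and, MulEquiv.toEquiv_eq_coe, EquivLike.coe_coe,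
      MulAut.conj_apply]
    rw [show orderOf (c * g * c⁻¹) = orderOf g from (MulAut.conj c).orderOf_eq g, ← hc1, ← hc2, mul_smul,
      mul_smul, mul_smul, mul_smul, inv_smul_smul, inv_smul_smul, smul_left_cancel_iff, smul_left_cancel_iff]
  set m := (S (A, B)).card with hm
  have hmem : (A, B) ∈ Om.offDiag := mem_offDiag.2 ⟨mem_univ _, mem_univ _, hAB⟩
  have hsum : cnt G 2 * (p ^ k - 1) ≤ ∑ P ∈ Om.offDiag, (S P).card := by
    rw [show ∑ P ∈ Om.offDiag, (S P).card = ∑ P ∈ Om.offDiag,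
        ∑ v ∈ univ.filter (fun g : G => orderOf g = 2), (if v • P.1 = P.2 ∧ v • P.2 = P.1 then 1 else 0) from
      sum_congr rfl fun P _ => by
        rw [← card_filter]
        exact congrArg card (by simp only [S, Sw]; rw [filter_comm])]
    rw [sum_comm, cnt, ← smul_eq_mul, ← sum_const]
    refine sum_le_sum fun v hv => ?_
    rw [← card_filter]
    have hv2 : v * v = 1 := by
      rw [← pow_two, ← (mem_filter.1 hv).2, pow_orderOf_eq_one]
    have hv1 : v ≠ 1 := fun e => by simpa [e] using hv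
    have hfix : (univ.filter fun X : Sylow p G => v • X = X).card ≤ 2 := by
      by_contra hlt
      obtain ⟨X, Y, Z, hX, hY, hZ, hXY, hXZ, hYZ⟩ := two_lt_card_iff.1 (not_le.1 hlt)
      exact hv1 (h.eq_one_of_three (Ne.symm hXY) (Ne.symm hXZ) hYZ (mem_filter.1 hX).2 (mem_filter.1 hY).2
        (mem_filter.1 hZ).2)
    have hmov := card_filter_add_card_filter_not (s := (univ : Finset (Sylow p G))) (p := fun X => v • X = X)
    rw [card_univ, h.card_points] at hmov
    refine le_trans (show p ^ k - 1 ≤ (univ.filter fun X : Sylow p G => ¬ v • X = X).card by omega) ?_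
    refine card_le_card_of_injOn (fun X => (X, v • X)) (fun X hX => ?_) (fun X _ Y _ e => congrArg Prod.fst e)
    exact mem_filter.2 ⟨mem_offDiag.2 ⟨mem_univ _, mem_univ _, Ne.symm (mem_filter.1 hX).2⟩, rfl,
      by rw [← mul_smul, hv2, one_smul]⟩
  rw [sum_const_nat fun P hP => hconst P hP (A, B) hmem, ← hm, offDiag_card, card_univ, h.card_points] at hsum
  have hm2 : p ^ k - 1 ≤ m := by
    by_contra hlt
    obtain ⟨j, hj⟩ := Nat.exists_eq_add_of_le hq
    have hlow := (Nat.mul_le_mul_right (p ^ k - 1) h.inv).trans hsum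
    rw [hj, show (3 + j + 1) * (3 + j + 1) - (3 + j + 1) = (3 + j + 1) * (3 + j) by
      rw [← Nat.mul_sub_one]; rfl, show 3 + j - 1 = 2 + j by omega] at hlow
    have hm' : m ≤ 1 + j := by omega
    have := hlow.trans (Nat.mul_le_mul_left _ hm')
    nlinarith
  have heq : S (A, B) = Sw (A, B) :=
    eq_of_subset_of_card_le (filter_subset _ _) ((hSw _ hmem).trans hm2)
  have hg : g ∈ S (A, B) := heq ▸ mem_filter.2 ⟨mem_univ _, hA, hB⟩
  rw [← pow_two, ← (mem_filter.1 hg).2, pow_orderOf_eq_one]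

/-- Stabilisers of two points are abelian. -/
theorem pair_comm [Fintype (Sylow p G)] {A B : Sylow p G} (hAB : A ≠ B) {d e : G} (hdA : d • A = A)
    (hdB : d • B = B) (heA : e • A = A) (heB : e • B = B) : d * e = e * d := by
  classical
  have hq := h.toOrd.three_le
  obtain ⟨C, -, hC⟩ := exists_mem_notMem_of_card_lt_card (s := ({A, B} : Finset (Sylow p G)))
    (t := univ) (lt_of_le_of_lt card_le_two (by rw [card_univ, h.card_points]; omega))
  simp only [Finset.mem_insert, mem_singleton, not_or] at hC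
  obtain ⟨u, huA, huB, -⟩ :=
    h.exists_three hAB (Ne.symm hC.1) (Ne.symm hC.2) (Ne.symm hAB) (Ne.symm hC.2) (Ne.symm hC.1)
  have hu := h.swap_sq hAB huA huB
  have hinv : ∀ x : G, x • A = A → x • B = B → u * x * u = x⁻¹ := fun x hxA hxB => by
    have := h.swap_sq hAB (g := u * x) (by rw [mul_smul, hxA, huA]) (by rw [mul_smul, hxB, huB])
    exact eq_inv_of_mul_eq_one_left (by rw [← this]; group)
  have e1 := hinv (d * e) (by rw [mul_smul, heA, hdA]) (by rw [mul_smul, heB, hdB])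
  rw [show u * (d * e) * u = u * d * (u * u) * e * u by rw [hu]; group,
    show u * d * (u * u) * e * u = u * d * u * (u * e * u) by group, hinv d hdA hdB, hinv e heA heB] at e1
  have := congrArg (·⁻¹) e1
  exact (show d * e = e * d by simpa [mul_inv_rev] using this.symm)

/-- The group is the projective linear group. -/
theorem iso_pgl : ∃ (F : Type) (_ : Field F) (_ : Fintype F), Fintype.card F = p ^ k ∧
    Nonempty (G ≃* Matrix.ProjGenLinGroup (Fin 2) F) := by
  classical
  letI : Fintype (Sylow p G) := Fintype.ofFinite _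
  have hq := h.toOrd.three_le
  let φ := MulAction.toPermHom G (Sylow p G)
  have hsmul : ∀ (g : G) (X : Sylow p G), φ g X = g • X := fun _ _ => rfl
  have hinj : Function.Injective φ := fun g g' e => by
    obtain ⟨X, Y, Z, -, -, -, hXY, hXZ, hYZ⟩ := two_lt_card_iff.1
      (show 2 < (univ : Finset (Sylow p G)).card by rw [card_univ, h.card_points]; omega)
    refine inv_mul_eq_one.1 (h.eq_one_of_three (g := g⁻¹ * g') (Ne.symm hXY) (Ne.symm hXZ) hYZ ?_ ?_ ?_) <;>
      rw [mul_smul, ← hsmul g', ← e, hsmul, inv_smul_smul]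
  have h3 : MulAction.IsMultiplyPretransitive φ.range (Sylow p G) 3 := by
    haveI := h.pretrans_three
    refine ⟨fun x y => ?_⟩
    obtain ⟨g, hg⟩ := MulAction.exists_smul_eq G x y
    exact ⟨⟨φ g, g, rfl⟩, Function.Embedding.ext fun i => DFunLike.congr_fun hg i⟩
  have hsharp : ∀ x : Fin 3 ↪ Sylow p G, MulAction.stabilizer φ.range x = ⊥ := by
    intro x
    rw [Subgroup.eq_bot_iff_forall]
    rintro ⟨_, g, rfl⟩ hg
    rw [MulAction.mem_stabilizer_iff] at hg
    have e : ∀ j, g • x j = x j := fun j => DFunLike.congr_fun hg j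
    have hg1 : g = 1 := h.eq_one_of_three (A := x 0) (B := x 1) (C := x 2)
      (fun e => by simpa using x.injective e) (fun e => by simpa using x.injective e)
      (fun e => by simpa using x.injective e) (e 0) (e 1) (e 2)
    exact Subtype.ext (by show φ g = 1; rw [hg1, map_one])
  obtain ⟨a⟩ : Nonempty (Sylow p G) := inferInstance
  obtain ⟨nf, haff⟩ := CfsgLib.SharpPGL.exists_coords h3 hsharp (by rw [h.card_points]; omega) a
  letI := nf
  have hzm := fun x => CfsgLib.SharpPGL.zero_mul' (α := Sylow p G) (a := a) x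
  have hcomm : ∀ u v : {x : Sylow p G // x ≠ a}, u * v = v * u := by
    intro u v
    rcases eq_or_ne u 0 with rfl | hu
    · rw [hzm, Cfsg.NearField.mul_zero]
    rcases eq_or_ne v 0 with rfl | hv
    · rw [hzm, Cfsg.NearField.mul_zero]
    obtain ⟨⟨_, g1, rfl⟩, g1a, g1z⟩ := haff u 0 hu
    obtain ⟨⟨_, g2, rfl⟩, g2a, g2z⟩ := haff v 0 hv
    simp only [add_zero] at g1z g2z
    have e1 := g1z 0
    have e2 := g2z 0
    rw [hzm] at e1 e2
    have hc := h.pair_comm (d := g1) (e := g2) (show a ≠ ((0 : {x : Sylow p G // x ≠ a}) : Sylow p G) from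
      (0 : {x : Sylow p G // x ≠ a}).2.symm) g1a e1 g2a e2
    have f1 : ∀ z : {x : Sylow p G // x ≠ a}, g1 • (z : Sylow p G) = ((z * u : {x : Sylow p G // x ≠ a}) : Sylow p G) := g1z
    have f2 : ∀ z : {x : Sylow p G // x ≠ a}, g2 • (z : Sylow p G) = ((z * v : {x : Sylow p G // x ≠ a}) : Sylow p G) := g2z
    apply Subtype.ext
    have eu : (u : Sylow p G) = g1 • ((1 : {x : Sylow p G // x ≠ a}) : Sylow p G) := by rw [f1, one_mul]
    rw [← f2 u, eu, ← mul_smul, ← hc, mul_smul, f2, one_mul, f1]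
  obtain ⟨F, iF, iFt, hF, ⟨e⟩⟩ := CfsgLib.SharpPGL.iso_of_comm h3 hsharp haff hcomm
  refine ⟨F, iF, iFt, ?_, ⟨(MonoidHom.ofInjective hinj).trans e⟩⟩
  rw [h.card_points] at hF
  omega

end Iso

end CfsgLib.NsePGL
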