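import Cfsg.Agent.Lib.NsePGL.Count
import Cfsg.Agent.Lib.PGL2Spectrum.Orders
import Cfsg.Agent.Lib.SLCard

/-!
The numbers of elements of each order in `PGL(2, q)`, `q` odd.
-/

set_option autoImplicit false
set_option linter.unusedSectionVars false
set_option linter.style.haveILetI false

namespace CfsgLib.NsePGL

open Finset Matrix

universe u v

/-- Projective general linear groups over isomorphic fields are isomorphic. -/
theorem pglEquiv {K : Type u} {L : Type v} [Field K] [Field L] (e : K ≃+* L) :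
    Nonempty (Matrix.ProjGenLinGroup (Fin 2) K ≃* Matrix.ProjGenLinGroup (Fin 2) L) := by
  let φ : GL (Fin 2) K ≃* GL (Fin 2) L := Units.mapEquiv e.mapMatrix.toMulEquiv
  refine ⟨QuotientGroup.congr _ _ φ ?_⟩
  ext x
  simp only [Subgroup.mem_map, Subgroup.mem_center_iff]
  constructor
  · rintro ⟨a, ha, rfl⟩ b
    obtain ⟨c, rfl⟩ := φ.surjective b
    show φ c * φ a = φ a * φ c
    rw [← map_mul, ← map_mul, ha c]
  · intro h
    obtain ⟨a, rfl⟩ := φ.surjective x
    refine ⟨a, fun b => φ.injective ?_, rfl⟩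
    rw [map_mul, map_mul]
    exact h (φ b)

section

variable {F : Type u} [Field F] [Fintype F]

local notation "PG" => GL (Fin 2) F ⧸ Subgroup.center (GL (Fin 2) F)

theorem ord_pgl {p k : ℕ} (hp : p.Prime) (hk : 0 < k) (hodd : p ≠ 2) (hq : Fintype.card F = p ^ k) :
    Ord PG p k := by
  refine ⟨hp, hodd, hk, ?_⟩
  have := CfsgLib.SLCard.card_PGL (F := F) 2
  rw [CfsgLib.SLCard.card_SL_two, hq] at this
  exact this

theorem isolated_pgl {p k : ℕ} [Fact p.Prime] [CharP F p] (hk : 0 < k) (hq : Fintype.card F = p ^ k)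
    (h2 : (2 : F) ≠ 0) : Isolated PG p := by
  intro x hx
  rcases (CfsgLib.PGL2Spectrum.pgl_orders p h2 (orderOf x)).1 ⟨x, rfl⟩ with e | e | e
  · exfalso
    have h1 : p ∣ Fintype.card F := hq ▸ dvd_pow_self p hk.ne'
    have h2' := Nat.dvd_sub h1 (hx.trans e)
    rw [Nat.sub_sub_self (Fintype.card_pos)] at h2'
    exact (Fact.out : p.Prime).one_lt.ne' (Nat.dvd_one.1 h2')
  · exfalso
    have h1 : p ∣ Fintype.card F := hq ▸ dvd_pow_self p hk.ne'
    have h2' := Nat.dvd_sub (hx.trans e) h1
    rw [Nat.add_sub_cancel_left] at h2'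
    exact (Fact.out : p.Prime).one_lt.ne' (Nat.dvd_one.1 h2')
  · exact e

/-- Trace zero matrices give involutions. -/
theorem le_cnt_two [Fintype PG] [DecidableEq PG] (h2 : (2 : F) ≠ 0) :
    Fintype.card F ^ 2 ≤ cnt PG 2 := by
  classical
  let M : (F × Fˣ) ⊕ F → Matrix (Fin 2) (Fin 2) F := Sum.elim
    (fun x => !![x.1, -(x.2 : F) - x.1 * x.1; 1, -x.1]) (fun b => !![1, b; 0, -1])
  have hdet : ∀ x, (M x).det ≠ 0 := by
    rintro (⟨a, d⟩ | b)
    · simp only [M, Sum.elim_inl, Matrix.det_fin_two_of]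
      rw [show a * -a - (-(d : F) - a * a) * 1 = (d : F) by ring]
      exact d.ne_zero
    · simp only [M, Sum.elim_inr, Matrix.det_fin_two_of]
      rw [show (1 : F) * -1 - b * 0 = -1 by ring]
      exact neg_ne_zero.2 one_ne_zero
  let g : (F × Fˣ) ⊕ F → GL (Fin 2) F := fun x => Matrix.GeneralLinearGroup.mkOfDetNeZero (M x) (hdet x)
  have hg : ∀ x, ((g x : GL (Fin 2) F) : Matrix (Fin 2) (Fin 2) F) = M x := fun x => rfl
  have hsq : ∀ x, ∃ s : F, M x * M x = s • (1 : Matrix (Fin 2) (Fin 2) F) := by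
    rintro (⟨a, d⟩ | b)
    · refine ⟨-(d : F), ?_⟩
      ext i j
      fin_cases i <;> fin_cases j <;> simp [M, Matrix.mul_apply, Fin.sum_univ_two] <;> ring
    · refine ⟨1, ?_⟩
      ext i j
      fin_cases i <;> fin_cases j <;> simp [M, Matrix.mul_apply, Fin.sum_univ_two]
  have hcent : ∀ z : GL (Fin 2) F, z ∈ Subgroup.center (GL (Fin 2) F) →
      ∃ s : F, (z : Matrix (Fin 2) (Fin 2) F) = s • (1 : Matrix (Fin 2) (Fin 2) F) := by
    intro z hz
    have e1 := congrArg Units.val (Subgroup.mem_center_iff.1 hz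
      (Matrix.GeneralLinearGroup.mkOfDetNeZero !![(1 : F), 1; 0, 1] (by simp [Matrix.det_fin_two])))
    have e2 := congrArg Units.val (Subgroup.mem_center_iff.1 hz
      (Matrix.GeneralLinearGroup.mkOfDetNeZero !![(1 : F), 0; 1, 1] (by simp [Matrix.det_fin_two])))
    simp only [Units.val_mul] at e1 e2
    have a1 := congrFun (congrFun e1 0) 0
    have a2 := congrFun (congrFun e1 0) 1
    have b1 := congrFun (congrFun e2 1) 1
    simp [Matrix.GeneralLinearGroup.mkOfDetNeZero, Matrix.mul_apply, Fin.sum_univ_two] at a1 a2 b1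
    refine ⟨(z : Matrix (Fin 2) (Fin 2) F) 0 0, ?_⟩
    ext i j
    fin_cases i <;> fin_cases j <;> simp [a1, b1] <;> linear_combination a2
  have hord : ∀ x, orderOf (QuotientGroup.mk (g x) : PG) = 2 := by
    intro x
    haveI : Fact (Nat.Prime 2) := ⟨Nat.prime_two⟩
    refine orderOf_eq_prime ?_ ?_
    · rw [← QuotientGroup.mk_pow, QuotientGroup.eq_one_iff, Subgroup.mem_center_iff]
      obtain ⟨s, hs⟩ := hsq x
      intro y
      apply Units.ext
      rw [Units.val_mul, Units.val_mul, pow_two, Units.val_mul, hg, hs, Matrix.mul_smul, Matrix.smul_mul,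
        mul_one, one_mul]
    · intro e
      rw [QuotientGroup.eq_one_iff] at e
      obtain ⟨s, hs⟩ := hcent _ e
      rw [hg] at hs
      rcases x with ⟨a, d⟩ | b
      · have := congrFun (congrFun hs 1) 0
        simp [M] at this
      · have h00 := congrFun (congrFun hs 0) 0
        have h11 := congrFun (congrFun hs 1) 1
        simp [M] at h00 h11
        exact h2 (by linear_combination h00 - h11)
  have hinj : Function.Injective fun x => (QuotientGroup.mk (g x) : PG) := by
    intro x y e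
    obtain ⟨s, hs⟩ := hcent _ (QuotientGroup.eq.1 e)
    have he : (g y : Matrix (Fin 2) (Fin 2) F) =
        (g x : Matrix (Fin 2) (Fin 2) F) * (((g x)⁻¹ * g y : GL (Fin 2) F) : Matrix (Fin 2) (Fin 2) F) := by
      rw [← Units.val_mul, mul_inv_cancel_left]
    rw [hs, Matrix.mul_smul, mul_one, hg, hg] at he
    have h10 := congrFun (congrFun he 1) 0
    have h00 := congrFun (congrFun he 0) 0
    have h01 := congrFun (congrFun he 0) 1
    rcases x with ⟨a, d⟩ | b <;> rcases y with ⟨a', d'⟩ | b' <;>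
      simp [M] at h10 h00 h01
    · subst h10
      rw [one_mul] at h00 h01
      subst h00
      congr 2
      exact Units.ext (by linear_combination h01)
    · subst h10
      simp at h00
    · subst h00
      rw [one_mul] at h01
      rw [h01]
  have hcard : Fintype.card ((F × Fˣ) ⊕ F) = Fintype.card F ^ 2 := by
    rw [Fintype.card_sum, Fintype.card_prod, Fintype.card_units]
    have := Fintype.card_pos (α := F)
    rw [Nat.mul_sub_one, Nat.sub_add_cancel (Nat.le_mul_self _), pow_two]
  rw [← hcard, ← card_univ, cnt]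
  exact card_le_card_of_injOn (fun x => (QuotientGroup.mk (g x) : PG))
    (fun x _ => mem_filter.2 ⟨mem_univ _, hord x⟩) hinj.injOn

end

end CfsgLib.NsePGL
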